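import Cfsg.Agent.H29.Solubilizer.Torus

set_option autoImplicit false

/-!
Elements of order `p` and their fixed points.
-/

namespace CfsgLib.H29.Solubilizer

open Matrix OnePoint MulAction CfsgLib.H29.Dickson
open scoped OnePoint

variable {F : Type*} [Field F] [Fintype F] (p : ℕ) [Fact p.Prime] [CharP F p]

include p in
theorem exists_unique_fixed {g : P2 F} (hg : g ≠ 1) (hgp : g ^ p = 1) :
    ∃ z : OnePoint F, g • z = z ∧ (∀ z', g • z' = z' → z' = z) ∧
      ∀ a : OnePoint (KK F), iota g • a = a → a = ex z := by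
  have := charP_KK (F := F) p
  have hi : iota g ≠ 1 := (map_ne_one_iff _ iota_injective).mpr hg
  rcases fixed_cases p hi with ⟨-, a, ha⟩ | ⟨h, -⟩
  · have hmem : ∀ b, iota g • b = b ↔ b = a := fun b => by
      rw [← mem_fixedBy, ha, Set.mem_singleton_iff]
    obtain ⟨z, hz⟩ := exists_ex_of_pow p hg hgp ((hmem a).mpr rfl)
    refine ⟨z, ex_injective ?_, fun z' hz' => ex_injective ?_, fun b hb => ?_⟩
    · rw [← iota_smul_ex, hz, (hmem a).mpr rfl]
    · rw [hz, ← hmem, iota_smul_ex, hz']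
    · rw [hz, ← hmem, hb]
  · exact absurd (by rw [← map_pow, hgp, map_one]) h

omit [Fintype F] in
theorem card_fix_pow (z : OnePoint F) :
    Nat.card {g : P2 F // g • z = z ∧ g ^ p = 1} = Nat.card F := by
  obtain ⟨γ, rfl⟩ := exists_to_infty z
  have h0 : ∀ b : F, (γ * tra b * γ⁻¹) • (γ • (∞ : OnePoint F)) = γ • ∞ ∧
      (γ * tra b * γ⁻¹) ^ p = 1 := fun b =>
    ⟨by simp [mul_smul, tra_smul_infty], by rw [conj_pow, tra_pow_char p, mul_one, mul_inv_cancel]⟩
  refine (Nat.card_congr (Equiv.ofBijective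
    (fun b => (⟨γ * tra b * γ⁻¹, h0 b⟩ : {g : P2 F // g • (γ • (∞ : OnePoint F)) = γ • ∞ ∧ g ^ p = 1}))
    ⟨?_, ?_⟩)).symm
  · intro a b h
    have := congrArg Subtype.val h
    simpa using tra_injective (mul_left_cancel (mul_right_cancel this))
  · rintro ⟨g, hg, hgp⟩
    obtain ⟨b, hb⟩ := eq_tra_of_fix p (g := γ⁻¹ * g * γ)
      (by simp [mul_smul, hg])
      (by rw [show γ⁻¹ * g * γ = γ⁻¹ * g * γ⁻¹⁻¹ by rw [inv_inv], conj_pow, hgp]; group)
    exact ⟨b, Subtype.ext (by simp only; rw [← hb]; group)⟩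

/-- The number of non-identity elements with `g ^ p = 1`. -/
theorem card_pow_eq_one :
    Nat.card {g : P2 F // g ≠ 1 ∧ g ^ p = 1} = (Fintype.card F + 1) * (Fintype.card F - 1) := by
  classical
  have := finite_P2 (F := F)
  have : Fintype (OnePoint F) := inferInstanceAs (Fintype (Option F))
  let f : {g : P2 F // g ≠ 1 ∧ g ^ p = 1} → OnePoint F :=
    fun g => (exists_unique_fixed p g.2.1 g.2.2).choose
  have hf : ∀ g z, f g = z ↔ (g : P2 F) • z = z := fun g z => by
    obtain ⟨h1, h2, -⟩ := (exists_unique_fixed p g.2.1 g.2.2).choose_spec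
    exact ⟨fun h => h ▸ h1, fun h => (h2 z h).symm⟩
  rw [Nat.card_congr (Equiv.sigmaFiberEquiv f).symm, Nat.card_sigma,
    Finset.sum_congr rfl (g := fun _ => Fintype.card F - 1) (fun z _ => ?_), Finset.sum_const,
    Finset.card_univ, smul_eq_mul, show Fintype.card (OnePoint F) = Fintype.card (Option F) from
      Fintype.card_congr (Equiv.refl _), Fintype.card_option]
  let e : {g : {g : P2 F // g ≠ 1 ∧ g ^ p = 1} // f g = z} ≃
      {g : {g : P2 F // g • z = z ∧ g ^ p = 1} // g ≠ ⟨1, one_smul _ _, one_pow _⟩} :=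
    { toFun := fun g => ⟨⟨g.1.1, (hf _ _).mp g.2, g.1.2.2⟩, fun h => g.1.2.1 (congrArg Subtype.val h)⟩
      invFun := fun g => ⟨⟨g.1.1, fun h => g.2 (Subtype.ext h), g.1.2.2⟩, (hf _ _).mpr g.1.2.1⟩
      left_inv := fun g => rfl
      right_inv := fun g => rfl }
  have : Fintype {g : P2 F // g • z = z ∧ g ^ p = 1} := Fintype.ofFinite _
  rw [Nat.card_congr e, Nat.card_eq_fintype_card, Fintype.card_subtype_compl,
    Fintype.card_subtype_eq, ← Nat.card_eq_fintype_card, card_fix_pow p z, Nat.card_eq_fintype_card]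

end CfsgLib.H29.Solubilizer
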