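import Cfsg.Agent.H29.Dickson.Solvable
import Cfsg.Agent.H29.Dickson.Small
import Cfsg.Agent.H29.Dickson.Transfer

set_option autoImplicit false

/-!
Solubilizers in `PSL₂(F)`: common part.
-/

namespace CfsgLib.H29.Solubilizer

open Matrix OnePoint MulAction CfsgLib.H29.Dickson
open scoped OnePoint

/-- The solubilizer of `x`. -/
def solSet {G : Type*} [Group G] (x : G) : Set G :=
  {y | Group.IsSolvable ↥(Subgroup.closure ({x, y} : Set G))}

theorem solvable_of_le {G : Type*} [Group G] {H K : Subgroup G} (h : H ≤ K)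
    (hK : Group.IsSolvable K) : Group.IsSolvable H :=
  Group.isSolvable_of_isSolvable_injective (f := Subgroup.inclusion h)
    (Subgroup.inclusion_injective h)

theorem card_solSet_map {G H : Type*} [Group G] [Group H] {f : G →* H}
    (hf : Function.Injective f) (x : G) :
    Nat.card {y : G // Group.IsSolvable ↥(Subgroup.closure ({x, y} : Set G))} =
      Nat.card ↥(solSet (f x) ∩ (f.range : Set H)) := by
  have key : ∀ y, Group.IsSolvable ↥(Subgroup.closure ({x, y} : Set G)) ↔ f y ∈ solSet (f x) := by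
    intro y
    have e : (Subgroup.closure ({x, y} : Set G)).map f = Subgroup.closure ({f x, f y} : Set H) := by
      rw [MonoidHom.map_closure, Set.image_pair]
    let eq := (Subgroup.closure ({x, y} : Set G)).equivMapOfInjective f hf
    show _ ↔ Group.IsSolvable ↥(Subgroup.closure ({f x, f y} : Set H))
    rw [← e]
    constructor
    · intro h; exact solvable_of_equiv eq.symm
    · intro h; exact solvable_of_equiv eq
  refine Nat.card_congr (Equiv.ofBijective
    (fun y => ⟨f y, (key _).mp y.2, y, rfl⟩) ⟨fun a b h => ?_, fun z => ?_⟩)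
  · exact Subtype.ext (hf (congrArg Subtype.val h))
  · obtain ⟨_, hz, y, rfl⟩ := z
    exact ⟨⟨y, (key y).mpr hz⟩, rfl⟩

variable {F : Type*} [Field F]

/-- The point stabiliser inside `W`. -/
noncomputable def BW (z : OnePoint F) : Subgroup (P2 F) := stabilizer (P2 F) z ⊓ W F

theorem mem_BW {z : OnePoint F} {g : P2 F} : g ∈ BW z ↔ g • z = z ∧ g ∈ W F :=
  Subgroup.mem_inf.trans (and_congr_left' mem_stabilizer_iff)

theorem closure_pair_le {G : Type*} [Group G] {H : Subgroup G} {x y : G} (hx : x ∈ H)
    (hy : y ∈ H) : Subgroup.closure ({x, y} : Set G) ≤ H :=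
  (Subgroup.closure_le H).mpr (Set.insert_subset hx (Set.singleton_subset_iff.mpr hy))

variable [Fintype F]

theorem solvable_T2 {a b : OnePoint (KK F)} (hab : a ≠ b) : Group.IsSolvable (T2 (F := F) a b) := by
  by_cases h : T2 (F := F) a b ≤ T1 a b
  · have := isCyclic_T1 (F := F) hab
    have : IsCyclic (T2 (F := F) a b) :=
      isCyclic_of_injective (Subgroup.inclusion h) (Subgroup.inclusion_injective _)
    let := IsCyclic.commGroup (α := T2 (F := F) a b)
    exact Group.isSolvable_of_comm fun u v => mul_comm u v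
  · obtain ⟨e⟩ := (iso_dihedral_of_le_T2 hab le_rfl h).2
    have := solvable_dihedral (Nat.card ↥(T2 (F := F) a b ⊓ T1 a b))
    exact solvable_of_equiv e

theorem mem_solSet_of_fix {x y : P2 F} {z : OnePoint F} (hx : x • z = z) (hy : y • z = z) :
    y ∈ solSet x :=
  solvable_of_le (closure_pair_le (H := stabilizer (P2 F) z) hx hy) (solvable_stab z)

theorem mem_solSet_of_T2 {x y : P2 F} {a b : OnePoint (KK F)} (hab : a ≠ b) (hx : x ∈ T2 a b)
    (hy : y ∈ T2 a b) : y ∈ solSet x :=
  solvable_of_le (closure_pair_le hx hy) (solvable_T2 hab)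

/-- a `(2,3,3)` generated group is solvable -/
theorem solvable_of_two_three_three {G : Type*} [Group G] {x y : G} (hx : x * x = 1)
    (hy : y * y * y = 1) (hxy : (x * y) * (x * y) * (x * y) = 1) :
    Group.IsSolvable ↥(Subgroup.closure ({x, y} : Set G)) := by
  set u := y * x * y⁻¹ with hu
  set v := y * u * y⁻¹ with hv
  have hxi : x⁻¹ = x := inv_eq_of_mul_eq_one_right hx
  have huu : u * u = 1 := by
    calc u * u = y * (x * x) * y⁻¹ := by rw [hu]; group
      _ = 1 := by rw [hx]; group
  have hvv : v * v = 1 := by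
    calc v * v = y * (u * u) * y⁻¹ := by rw [hv]; group
      _ = 1 := by rw [huu]; group
  have hprod : x * u * v = 1 := by
    calc x * u * v = (x * y) * (x * y) * (x * y) * (y * y * y)⁻¹ := by rw [hv, hu]; group
      _ = 1 := by rw [hxy, hy]; group
  have hvy : y * v * y⁻¹ = x := by
    calc y * v * y⁻¹ = (y * y * y) * x * (y * y * y)⁻¹ := by rw [hv, hu]; group
      _ = x := by rw [hy]; group
  have hv' : v = u * x := by
    have h := eq_inv_of_mul_eq_one_right hprod
    rw [_root_.mul_inv_rev, hxi, inv_eq_of_mul_eq_one_right huu] at h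
    exact h
  have hcomm : x * u = u * x := by
    have h := eq_inv_of_mul_eq_one_left hprod
    rw [inv_eq_of_mul_eq_one_right hvv, hv'] at h
    exact h
  set K := Subgroup.closure ({x, u} : Set G) with hK
  set H := Subgroup.closure ({x, y} : Set G) with hH
  have hxH : x ∈ H := Subgroup.subset_closure (by simp)
  have hyH : y ∈ H := Subgroup.subset_closure (by simp)
  have hKH : K ≤ H := closure_pair_le hxH (H.mul_mem (H.mul_mem hyH hxH) (H.inv_mem hyH))
  have hxK : x ∈ K := Subgroup.subset_closure (by simp)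
  have huK : u ∈ K := Subgroup.subset_closure (by simp)
  have hKc : ∀ a ∈ K, ∀ b ∈ K, a * b = b * a := by
    have h0 : ∀ a ∈ ({x, u} : Set G), K ≤ Subgroup.centralizer ({a} : Set G) := by
      intro a ha
      refine closure_pair_le ?_ ?_ <;> rw [Subgroup.mem_centralizer_singleton_iff] <;>
        rcases ha with rfl | rfl
      exacts [rfl, hcomm, hcomm.symm, rfl]
    intro a ha b hb
    have h1 : K ≤ Subgroup.centralizer ({a} : Set G) := by
      refine closure_pair_le ?_ ?_ <;> rw [Subgroup.mem_centralizer_singleton_iff]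
      · exact (Subgroup.mem_centralizer_singleton_iff.mp (h0 x (by simp) ha)).symm
      · exact (Subgroup.mem_centralizer_singleton_iff.mp (h0 u (by simp) ha)).symm
    exact (Subgroup.mem_centralizer_singleton_iff.mp (h1 hb)).symm
  have hmapK : ∀ g, g * x * g⁻¹ ∈ K → g * u * g⁻¹ ∈ K → ∀ k ∈ K, g * k * g⁻¹ ∈ K := by
    intro g h1 h2 k hk
    exact closure_pair_le (H := K.comap (MulAut.conj g).toMonoidHom) h1 h2 hk
  have hnK : (K.subgroupOf H).Normal := by
    refine ⟨fun n hn g => ?_⟩
    rw [Subgroup.mem_subgroupOf] at hn ⊢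
    simp only [Subgroup.coe_mul, Subgroup.coe_inv]
    have hgen : ∀ g ∈ H, ∀ k ∈ K, g * k * g⁻¹ ∈ K := by
      intro g hg
      induction hg using Subgroup.closure_induction'' with
      | one => intro k hk; simpa using hk
      | mem a ha =>
        rcases ha with ha | ha
        · rw [ha]
          exact hmapK _ (K.mul_mem (K.mul_mem hxK hxK) (K.inv_mem hxK))
            (K.mul_mem (K.mul_mem hxK huK) (K.inv_mem hxK))
        · rw [Set.mem_singleton_iff.mp ha]
          refine hmapK _ huK ?_
          show v ∈ K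
          rw [hv']; exact K.mul_mem huK hxK
      | inv_mem a ha =>
        rcases ha with ha | ha
        · rw [ha, hxi]
          exact hmapK _ (K.mul_mem (K.mul_mem hxK hxK) (K.inv_mem hxK))
            (K.mul_mem (K.mul_mem hxK huK) (K.inv_mem hxK))
        · rw [Set.mem_singleton_iff.mp ha]
          refine hmapK _ ?_ ?_
          · have : y⁻¹ * x * y⁻¹⁻¹ = v := by
              calc y⁻¹ * x * y⁻¹⁻¹ = y⁻¹ * (y * v * y⁻¹) * y⁻¹⁻¹ := by rw [hvy]
                _ = v := by group
            rw [this, hv']; exact K.mul_mem huK hxK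
          · have : y⁻¹ * u * y⁻¹⁻¹ = x := by rw [hu]; group
            rw [this]; exact hxK
      | mul a b _ _ iha ihb =>
        intro k hk
        have := iha _ (ihb k hk)
        simpa [mul_assoc] using this
    exact hgen g g.2 _ hn
  have hKs : Group.IsSolvable (K.subgroupOf H) :=
    Group.isSolvable_of_comm fun a b => Subtype.ext (Subtype.ext (hKc _ a.2 _ b.2))
  let π := QuotientGroup.mk' (K.subgroupOf H)
  have hq : ∀ q : ↥H ⧸ K.subgroupOf H, q ∈ Subgroup.zpowers (π ⟨y, hyH⟩) := by
    intro q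
    obtain ⟨⟨g, hg⟩, rfl⟩ := QuotientGroup.mk'_surjective _ q
    have hle : (Subgroup.closure ({⟨x, hxH⟩, ⟨y, hyH⟩} : Set H)) ≤
        (Subgroup.zpowers (π ⟨y, hyH⟩)).comap π := by
      refine closure_pair_le ?_ ?_
      · rw [Subgroup.mem_comap]
        have : π ⟨x, hxH⟩ = 1 := (QuotientGroup.eq_one_iff _).mpr hxK
        rw [this]; exact one_mem _
      · exact Subgroup.mem_zpowers _
    have htop : Subgroup.closure ({⟨x, hxH⟩, ⟨y, hyH⟩} : Set H) = ⊤ := by
      refine Subgroup.map_injective H.subtype_injective ?_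
      rw [MonoidHom.map_closure, Set.image_pair, ← MonoidHom.range_eq_map, Subgroup.range_subtype]
      rfl
    exact hle (htop ▸ Subgroup.mem_top _)
  have : IsCyclic (↥H ⧸ K.subgroupOf H) := ⟨⟨_, hq⟩⟩
  let := IsCyclic.commGroup (α := ↥H ⧸ K.subgroupOf H)
  have : Group.IsSolvable (↥H ⧸ K.subgroupOf H) := Group.isSolvable_of_comm fun a b => mul_comm a b
  exact Group.isSolvable_of_ker_le_range (K.subgroupOf H).subtype π
    (by rw [Subgroup.range_subtype, QuotientGroup.ker_mk'])

theorem not_solvable_W (h4 : 4 ≤ Fintype.card F) : ¬ Group.IsSolvable (W F) := by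
  intro h
  have e := MonoidHom.ofInjective (f := Matrix.ProjectiveSpecialLinearGroup.toPGL (n := Fin 2) (R := F))
    Matrix.ProjectiveSpecialLinearGroup.toPGL_injective
  rw [range_toPGL] at e
  exact (not_solvable_PSL h4).2.2 (solvable_of_equiv e)

theorem not_solvable_A5 : ¬ Group.IsSolvable (alternatingGroup (Fin 5)) := fun h => by
  refine Equiv.Perm.fin_5_not_solvable ?_
  exact Group.isSolvable_of_ker_le_range (alternatingGroup (Fin 5)).subtype Equiv.Perm.sign
    (by rw [Subgroup.range_subtype]; exact le_rfl)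

variable (p : ℕ) [Fact p.Prime] [CharP F p]

/-- Solvable subgroups over a field of prime degree. -/
theorem solvable_cases (h4 : 4 ≤ Fintype.card F) {n : ℕ} (hn : n.Prime)
    (hF : Fintype.card F = p ^ n) {G : Subgroup (P2 F)} (hG : Group.IsSolvable G) :
    (∃ z : OnePoint F, ∀ g ∈ G, g • z = z) ∨
    (∃ a b : OnePoint (KK F), a ≠ b ∧ G ≤ T2 a b) ∨
    (∃ (γ : P2 F) (L : Subfield F), Nat.card L = p ∧
      (G.map (MulAut.conj γ).toMonoidHom = PL L ∨ G.map (MulAut.conj γ).toMonoidHom = PS L)) ∨
    ((Nat.card G = 12 ∨ Nat.card G = 24) ∧ ¬ p ∣ 12) := by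
  have main : ∀ (γ : P2 F) (L : Subfield F), (G.map (MulAut.conj γ).toMonoidHom = PL L ∨
      G.map (MulAut.conj γ).toMonoidHom = PS L) → Nat.card L = p := by
    intro γ L h
    obtain ⟨a, m, ha, hm, hL, hFa, -⟩ := subfield_card p L
    have hnam : n = a * m := by
      rw [← pow_mul] at hFa
      exact Nat.pow_right_injective (Fact.out : p.Prime).two_le (hF.symm.trans hFa)
    rcases hn.eq_one_or_self_of_dvd a (Dvd.intro m hnam.symm) with rfl | rfl
    · rw [hL, pow_one]
    exfalso
    obtain rfl : L = ⊤ := by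
      refine eq_top_iff.mpr fun z _ => ?_
      have hu : (L : Set F) = Set.univ := by
        refine Set.eq_of_subset_of_ncard_le (Set.subset_univ _) ?_ Set.finite_univ
        rw [Set.ncard_univ, Nat.card_eq_fintype_card, hF, ← Nat.card_coe_set_eq]
        exact hL.ge
      exact hu.ge (Set.mem_univ z)
    have hW : W F ≤ G.map (MulAut.conj γ).toMonoidHom := by
      have hPS : W F ≤ PS (⊤ : Subfield F) := by
        intro g hg
        obtain ⟨mm, rfl⟩ := exists_pr g
        obtain ⟨s, hs⟩ := mem_W_iff.mp hg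
        exact mem_PS_of_entries ⊤ mm (fun _ _ => trivial) (s := s) trivial hs
      rcases h with h | h <;> rw [h]
      · exact hPS.trans (PS_le_PL _)
      · exact hPS
    exact not_solvable_W h4 (solvable_of_le hW (solvable_of_equiv (equivConj G γ).symm))
  cases subKind p G with
  | borel x h => exact Or.inl ⟨x, h⟩
  | cyclic a b c hc hc1 hab hle hp => exact Or.inr (Or.inl ⟨a, b, hab, hle.trans (T1_le_T2 a b)⟩)
  | dih a b c hc hc1 hab hcab hle m hm hord hmc e => exact Or.inr (Or.inl ⟨a, b, hab, hle⟩)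
  | a4 hc hp e => exact Or.inr (Or.inr (Or.inr ⟨Or.inl hc, hp⟩))
  | s4 hc hp e =>
    exact Or.inr (Or.inr (Or.inr ⟨Or.inr hc, fun h => hp (h.trans (by norm_num))⟩))
  | a5 hc hp e => exact absurd (solvable_of_equiv e.some.symm) not_solvable_A5
  | pgl γ L h => exact Or.inr (Or.inr (Or.inl ⟨γ, L, main γ L (Or.inl h), Or.inl h⟩))
  | psl γ L h => exact Or.inr (Or.inr (Or.inl ⟨γ, L, main γ L (Or.inr h), Or.inr h⟩))

end CfsgLib.H29.Solubilizer
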