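import Cfsg.Agent.H29.Solubilizer.Unipotent

set_option autoImplicit false

/-!
Coordinates for `PSL₂(F)`, `-1` a non-square.
-/

namespace CfsgLib.H29.Solubilizer

open Matrix OnePoint MulAction CfsgLib.H29.Dickson
open scoped OnePoint

variable {F : Type*} [Field F]

/-- The image of a matrix of determinant one. -/
noncomputable def E (a b c d : F) (h : a * d - b * c = 1) : P2 F :=
  pr (el a b c d (by rw [h]; exact one_ne_zero))

theorem E_mem_W (a b c d : F) (h : a * d - b * c = 1) : E a b c d h ∈ W F :=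
  mem_W_iff.mpr ⟨1, by simp [h]⟩

theorem E_congr {a b c d a' b' c' d' : F} (h : a * d - b * c = 1) (h' : a' * d' - b' * c' = 1)
    (e1 : a = a') (e2 : b = b') (e3 : c = c') (e4 : d = d') : E a b c d h = E a' b' c' d' h' := by
  subst e1 e2 e3 e4; rfl

theorem E_mul (a b c d : F) (h : a * d - b * c = 1) (a' b' c' d' : F)
    (h' : a' * d' - b' * c' = 1) : E a b c d h * E a' b' c' d' h' =
      E (a * a' + b * c') (a * b' + b * d') (c * a' + d * c') (c * b' + d * d')
        (by linear_combination (a' * d' - b' * c') * h + h') := by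
  rw [E, E, E, ← map_mul]
  refine congrArg pr (Units.ext ?_)
  ext i j
  rw [gl_mul_apply]
  fin_cases i <;> fin_cases j <;> simp

theorem E_eq_one_iff (a b c d : F) (h : a * d - b * c = 1) :
    E a b c d h = 1 ↔ b = 0 ∧ c = 0 ∧ a = d := by
  rw [E, pr_eq_one_iff]; simp

theorem exists_E {y : P2 F} (hy : y ∈ W F) :
    ∃ a b c d, ∃ h : a * d - b * c = 1, y = E a b c d h := by
  obtain ⟨m, rfl⟩ := exists_pr y
  obtain ⟨s, hs⟩ := mem_W_iff.mp hy
  have hs0 : s ≠ 0 := by rintro rfl; exact gl_det_ne m (by rw [hs, mul_zero])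
  refine ⟨m 0 0 / s, m 0 1 / s, m 1 0 / s, m 1 1 / s, by field_simp; linear_combination hs,
    pr_eq_pr_iff.mpr ⟨s⁻¹, inv_ne_zero hs0, fun i j => ?_⟩⟩
  fin_cases i <;> fin_cases j <;> simp [div_eq_inv_mul]

theorem E_eq_iff {a b c d a' b' c' d' : F} (h : a * d - b * c = 1)
    (h' : a' * d' - b' * c' = 1) :
    E a b c d h = E a' b' c' d' h' ↔
      (a' = a ∧ b' = b ∧ c' = c ∧ d' = d) ∨ (a' = -a ∧ b' = -b ∧ c' = -c ∧ d' = -d) := by
  rw [E, E, pr_eq_pr_iff]
  constructor
  · rintro ⟨k, -, hk⟩
    have h00 := hk 0 0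
    have h01 := hk 0 1
    have h10 := hk 1 0
    have h11 := hk 1 1
    simp at h00 h01 h10 h11
    have hk2 : k * k = 1 := by
      rw [h00, h01, h10, h11] at h'
      linear_combination h' - k * k * h
    rcases mul_self_eq_one_iff.mp hk2 with rfl | rfl
    · left; simp only [one_mul] at h00 h01 h10 h11; exact ⟨h00, h01, h10, h11⟩
    · right; simp only [neg_one_mul] at h00 h01 h10 h11; exact ⟨h00, h01, h10, h11⟩
  · rintro (⟨e1, e2, e3, e4⟩ | ⟨e1, e2, e3, e4⟩)
    · exact ⟨1, one_ne_zero, fun i j => by fin_cases i <;> fin_cases j <;> simp [e1, e2, e3, e4]⟩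
    · exact ⟨-1, by simp, fun i j => by fin_cases i <;> fin_cases j <;> simp [e1, e2, e3, e4]⟩

theorem E_neg {a b c d : F} (h : a * d - b * c = 1) :
    E a b c d h = E (-a) (-b) (-c) (-d) (by linear_combination h) :=
  (E_eq_iff h _).mpr (Or.inr ⟨rfl, rfl, rfl, rfl⟩)

theorem E_sq_eq_one_iff (a b c d : F) (h : a * d - b * c = 1) :
    E a b c d h * E a b c d h = 1 ↔ a + d = 0 ∨ E a b c d h = 1 := by
  constructor
  · intro h1
    rw [E_mul, E_eq_one_iff] at h1
    obtain ⟨h1, h2, h3⟩ := h1
    by_cases ht : a + d = 0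
    · exact Or.inl ht
    · right
      rw [E_eq_one_iff]
      refine ⟨(mul_eq_zero.mp (show b * (a + d) = 0 by linear_combination h1)).resolve_right ht,
        (mul_eq_zero.mp (show c * (a + d) = 0 by linear_combination h2)).resolve_right ht, ?_⟩
      exact sub_eq_zero.mp
        ((mul_eq_zero.mp (show (a - d) * (a + d) = 0 by linear_combination h3)).resolve_right ht)
  · rintro (ht | h1)
    · rw [E_mul, E_eq_one_iff]
      exact ⟨by linear_combination b * ht, by linear_combination c * ht,
        by linear_combination (a - d) * ht⟩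
    · rw [h1, one_mul]

theorem E_cube_eq_one_iff (a b c d : F) (h : a * d - b * c = 1) :
    E a b c d h * E a b c d h * E a b c d h = 1 ↔ (a + d) * (a + d) = 1 ∨ E a b c d h = 1 := by
  constructor
  · intro h1
    rw [E_mul, E_mul, E_eq_one_iff] at h1
    obtain ⟨h1, h2, h3⟩ := h1
    by_cases ht : (a + d) * (a + d) - 1 = 0
    · exact Or.inl (sub_eq_zero.mp ht)
    · right
      rw [E_eq_one_iff]
      refine ⟨(mul_eq_zero.mp (show b * ((a + d) * (a + d) - 1) = 0 by
          linear_combination h1 + b * h)).resolve_right ht,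
        (mul_eq_zero.mp (show c * ((a + d) * (a + d) - 1) = 0 by
          linear_combination h2 + c * h)).resolve_right ht, ?_⟩
      exact sub_eq_zero.mp
        ((mul_eq_zero.mp (show (a - d) * ((a + d) * (a + d) - 1) = 0 by
          linear_combination h3 + (a - d) * h)).resolve_right ht)
  · rintro (ht | h1)
    · rw [E_mul, E_mul, E_eq_one_iff]
      exact ⟨by linear_combination b * ht - b * h, by linear_combination c * ht - c * h,
        by linear_combination (a - d) * ht - (a - d) * h⟩
    · rw [h1, one_mul, one_mul]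

theorem E_smul_infty_ne (a b c d : F) (h : a * d - b * c = 1) (hc : c ≠ 0) :
    E a b c d h • (∞ : OnePoint F) ≠ ∞ := by
  rw [E, Ne, smul_infty_eq_iff]; simpa using hc

/-- The unit circle has `q + 1` points. -/
theorem card_circle [Fintype F] (hns : ¬ IsSquare (-1 : F)) (h2 : (2 : F) ≠ 0) :
    Nat.card {w : F × F // w.1 * w.1 + w.2 * w.2 = 1} = Fintype.card F + 1 := by
  have hd : ∀ t : F, 1 + t * t ≠ 0 := fun t e => hns ⟨t, by linear_combination -e⟩
  rw [← Fintype.card_option, ← Nat.card_eq_fintype_card]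
  refine (Nat.card_congr (Equiv.ofBijective (fun o => match o with
    | Option.none => (⟨(-1, 0), by simp⟩ : {w : F × F // w.1 * w.1 + w.2 * w.2 = 1})
    | Option.some t => ⟨((1 - t * t) / (1 + t * t), 2 * t / (1 + t * t)), by
        simp only
        rw [div_mul_div_comm, div_mul_div_comm, ← add_div,
          div_eq_one_iff_eq (mul_ne_zero (hd t) (hd t))]
        ring⟩) ⟨?_, ?_⟩)).symm
  · have key : ∀ t : F, (1 - t * t) / (1 + t * t) ≠ -1 := fun t e => by
      have := hd t
      rw [div_eq_iff this] at e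
      exact h2 (by linear_combination e)
    rintro (_ | s) (_ | t) hst <;> simp only [Subtype.mk.injEq, Prod.mk.injEq] at hst
    · rfl
    · exact absurd hst.1.symm (key t)
    · exact absurd hst.1 (key s)
    · obtain ⟨e1, e2⟩ := hst
      have := hd s
      have := hd t
      rw [div_eq_div_iff (hd s) (hd t)] at e1 e2
      congr 1
      have h4 : (2 : F) * (1 + s * s) ≠ 0 := mul_ne_zero h2 (hd s)
      have h5 : (s - t) * (2 * (1 + s * s)) = 0 := by linear_combination e2 - s * e1
      exact sub_eq_zero.mp ((mul_eq_zero.mp h5).resolve_right h4)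
  · rintro ⟨⟨u, v⟩, huv⟩
    by_cases hu : u = -1
    · subst hu
      have h0 : v = 0 := by simpa using huv
      subst h0
      exact ⟨Option.none, rfl⟩
    · have hu' : 1 + u ≠ 0 := fun e => hu (by linear_combination e)
      refine ⟨Option.some (v / (1 + u)), Subtype.ext ?_⟩
      have := hd (v / (1 + u))
      simp only [Prod.mk.injEq]
      simp only at huv
      have e : 1 + v / (1 + u) * (v / (1 + u)) = 2 / (1 + u) := by
        field_simp; linear_combination huv
      rw [e]
      constructor
      · field_simp; linear_combination -huv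
      · field_simp

/-- Half of the non-zero elements are squares. -/
theorem card_squares [Fintype F] (hns : ¬ IsSquare (-1 : F)) :
    2 * Nat.card {v : F // v ≠ 0 ∧ IsSquare v} = Fintype.card F - 1 := by
  classical
  have hor : ∀ v : F, v ≠ 0 → ¬ IsSquare v → IsSquare (-v) := by
    intro v hv hvs
    refine (quadraticChar_one_iff_isSquare (F := F) (neg_ne_zero.mpr hv)).mp ?_
    have h1 := quadraticChar_neg_one_iff_not_isSquare.mpr hns
    have h2 := quadraticChar_neg_one_iff_not_isSquare.mpr hvs
    rw [neg_eq_neg_one_mul, map_mul, h1, h2]; norm_num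
  have e : Nat.card {v : F // v ≠ 0 ∧ ¬ IsSquare v} = Nat.card {v : F // v ≠ 0 ∧ IsSquare v} := by
    refine Nat.card_congr
      { toFun := fun v => ⟨-v.1, neg_ne_zero.mpr v.2.1, hor _ v.2.1 v.2.2⟩
        invFun := fun v => ⟨-v.1, neg_ne_zero.mpr v.2.1, fun h => hns ?_⟩
        left_inv := fun v => Subtype.ext (neg_neg v.1)
        right_inv := fun v => Subtype.ext (neg_neg v.1) }
    have := h.div v.2.2
    rwa [neg_div, div_self v.2.1] at this
  have h1 : Nat.card {v : F // v ≠ 0} = Fintype.card F - 1 := by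
    rw [Nat.card_eq_fintype_card, Fintype.card_subtype_compl, Fintype.card_subtype_eq]
  have s : Nat.card {v : F // v ≠ 0} =
      Nat.card {v : F // v ≠ 0 ∧ IsSquare v} + Nat.card {v : F // v ≠ 0 ∧ ¬ IsSquare v} := by
    simp only [Nat.card_eq_fintype_card, Fintype.card_subtype, ← Finset.filter_filter]
    exact (Finset.card_filter_add_card_filter_not _).symm
  omega

end CfsgLib.H29.Solubilizer
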