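import Cfsg.Agent.H29.Solubilizer.Base

set_option autoImplicit false

/-!
Solubilizers of semisimple elements in `PSL₂(F)`.
-/

namespace CfsgLib.H29.Solubilizer

open Matrix OnePoint MulAction CfsgLib.H29.Dickson
open scoped OnePoint

variable {F : Type*} [Field F] [Fintype F]

theorem finiteP2 : Finite (P2 F) := finite_P2

/-- Every solvable subgroup of `W` through `x` fixes a point or preserves a pair. -/
def PairClass (x : P2 F) : Prop :=
  ∀ G : Subgroup (P2 F), G ≤ W F → Group.IsSolvable G → x ∈ G →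
    (∃ z : OnePoint F, ∀ g ∈ G, g • z = z) ∨ ∃ a b : OnePoint (KK F), a ≠ b ∧ G ≤ T2 a b

variable (p : ℕ) [Fact p.Prime] [CharP F p]

include p in
theorem semisimple (h4 : 4 ≤ Fintype.card F) {x : P2 F} (hxW : x ∈ W F) (hxp : x ^ p ≠ 1)
    (hx2 : x * x ≠ 1) (hcl : PairClass x) :
    (orderOf x ∣ Fintype.card F - 1 →
      Nat.card ↥(solSet x ∩ (W F : Set (P2 F))) * Nat.gcd 2 (Fintype.card F - 1) =
        2 * Fintype.card F * (Fintype.card F - 1)) ∧
    (orderOf x ∣ Fintype.card F + 1 →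
      Nat.card ↥(solSet x ∩ (W F : Set (P2 F))) * Nat.gcd 2 (Fintype.card F - 1) =
        2 * (Fintype.card F + 1)) := by
  have := finite_P2 (F := F)
  have hx1 : x ≠ 1 := fun h => hx2 (by rw [h, one_mul])
  obtain ⟨a, b, e, he, D, hxT, hde, -⟩ := orderOf_cases p hx1 hxp
  have hboth : ∀ {k : ℕ}, orderOf x ∣ Fintype.card F - 1 → orderOf x ∣ Fintype.card F + 1 → k = 0 := by
    intro k h1 h2
    have h3 := Nat.dvd_sub h2 h1
    rw [show Fintype.card F + 1 - (Fintype.card F - 1) = 2 by omega] at h3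
    exact absurd (by simpa [pow_two] using orderOf_dvd_iff_pow_eq_one.mp h3) hx2
  have he1 : e ≠ 1 := by
    intro h
    rw [h, Nat.dvd_one, orderOf_eq_one_iff] at hde
    exact hx1 hde
  have hi : iota x ≠ 1 := (map_ne_one_iff _ iota_injective).mpr hx1
  have hfix : ∀ z, iota x • z = z → z = a ∨ z = b := by
    intro z hz
    by_contra h
    push Not at h
    exact hi (eq_one_of_fix₃ D.ne h.1.symm h.2.symm hxT.1 hxT.2 hz)
  have hT2 : ∀ c d : OnePoint (KK F), c ≠ d → x ∈ T2 c d → T2 (F := F) c d = T2 a b := by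
    intro c d hcd hx
    rcases hx with ⟨hc, hd⟩ | ⟨hc, hd⟩
    · rcases hfix c hc with rfl | rfl <;> rcases hfix d hd with rfl | rfl
      · exact absurd rfl hcd
      · rfl
      · ext g; simp only [mem_T2]; tauto
      · exact absurd rfl hcd
    · exact absurd (sq_eq_one_of_swap hcd hc hd) hx2
  have hsol : ∀ y ∈ W F, y ∈ solSet x →
      (∃ z : OnePoint F, x • z = z ∧ y • z = z) ∨ y ∈ T2 a b := by
    intro y hy hs
    have hxG : x ∈ Subgroup.closure ({x, y} : Set (P2 F)) := Subgroup.subset_closure (by simp)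
    have hyG : y ∈ Subgroup.closure ({x, y} : Set (P2 F)) := Subgroup.subset_closure (by simp)
    rcases hcl _ (closure_pair_le hxW hy) hs hxG with ⟨z, hz⟩ | ⟨c, d, hcd, hle⟩
    · exact Or.inl ⟨z, hz _ hxG, hz _ hyG⟩
    · exact Or.inr (hT2 c d hcd (hle hxG) ▸ hle hyG)
  obtain ⟨hTW, hT2W, -⟩ := D.special
  have hcardB : ∀ z : OnePoint F, ((BW z : Subgroup (P2 F)) : Set (P2 F)).ncard *
      Nat.gcd 2 (Fintype.card F - 1) = Fintype.card F * (Fintype.card F - 1) := fun z => by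
    rw [← Nat.card_coe_set_eq]; exact card_stab_W z
  rcases D.rational h4 he1 with ⟨heq, a₀, b₀, hne, ha, hb⟩ | ⟨heq, θ, t, d, hθ, -, hne, ha, hb⟩
  · refine ⟨fun _ => ?_, fun h => absurd (hboth (k := 1) (heq ▸ hde) h) one_ne_zero⟩
    have hfixF : ∀ (g : P2 F) (z : OnePoint F), iota g • ex z = ex z ↔ g • z = z := fun g z => by
      rw [iota_smul_ex, ex_injective.eq_iff]
    have hS : solSet x ∩ (W F : Set (P2 F)) =
        ((BW a₀ : Subgroup (P2 F)) : Set (P2 F)) ∪ (BW b₀ : Set (P2 F)) ∪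
          ((T2 a b ⊓ W F : Subgroup (P2 F)) : Set (P2 F)) := by
      ext y
      simp only [Set.mem_inter_iff, Set.mem_union, SetLike.mem_coe, mem_BW, Subgroup.mem_inf]
      constructor
      · rintro ⟨hs, hy⟩
        rcases hsol y hy hs with ⟨z, hxz, hyz⟩ | h
        · rcases hfix (ex z) ((hfixF x z).mpr hxz) with h | h
          · obtain rfl := ex_injective (h.trans ha.symm); exact Or.inl (Or.inl ⟨hyz, hy⟩)
          · obtain rfl := ex_injective (h.trans hb.symm); exact Or.inl (Or.inr ⟨hyz, hy⟩)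
        · exact Or.inr ⟨h, hy⟩
      · rintro ((⟨h, hy⟩ | ⟨h, hy⟩) | ⟨h, hy⟩)
        · exact ⟨mem_solSet_of_fix ((hfixF x a₀).mp (by rw [ha]; exact hxT.1)) h, hy⟩
        · exact ⟨mem_solSet_of_fix ((hfixF x b₀).mp (by rw [hb]; exact hxT.2)) h, hy⟩
        · exact ⟨mem_solSet_of_T2 D.ne (T1_le_T2 a b hxT) h, hy⟩
    have hAB : ((BW a₀ : Subgroup (P2 F)) : Set (P2 F)) ∩ (BW b₀ : Set (P2 F)) =
        ((T1 a b ⊓ W F : Subgroup (P2 F)) : Set (P2 F)) := by
      ext y
      simp only [Set.mem_inter_iff, SetLike.mem_coe, mem_BW, Subgroup.mem_inf, mem_T1, ← ha, ← hb,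
        hfixF]
      tauto
    have hABT : (((BW a₀ : Subgroup (P2 F)) : Set (P2 F)) ∪ (BW b₀ : Set (P2 F))) ∩
        ((T2 a b ⊓ W F : Subgroup (P2 F)) : Set (P2 F)) =
        ((T1 a b ⊓ W F : Subgroup (P2 F)) : Set (P2 F)) := by
      ext y
      simp only [Set.mem_inter_iff, Set.mem_union, SetLike.mem_coe, mem_BW, Subgroup.mem_inf,
        mem_T1, mem_T2, ← ha, ← hb, iota_smul_ex, ex_injective.eq_iff]
      constructor
      · rintro ⟨h1 | h1, h2 | h2, hy⟩
        · exact ⟨h2, hy⟩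
        · exact absurd (h1.1.symm.trans h2.1) hne
        · exact ⟨h2, hy⟩
        · exact absurd (h2.2.symm.trans h1.1) hne
      · rintro ⟨h, hy⟩
        exact ⟨Or.inl ⟨h.1, hy⟩, Or.inl h, hy⟩
    have e1 := Set.ncard_union_add_ncard_inter ((BW a₀ : Subgroup (P2 F)) : Set (P2 F)) (BW b₀ : Set (P2 F))
    have e2 := Set.ncard_union_add_ncard_inter
      (((BW a₀ : Subgroup (P2 F)) : Set (P2 F)) ∪ (BW b₀ : Set (P2 F)))
      ((T2 a b ⊓ W F : Subgroup (P2 F)) : Set (P2 F))
    rw [hAB] at e1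
    rw [hABT] at e2
    rw [Nat.card_coe_set_eq, hS]
    have t1 : ((T1 a b ⊓ W F : Subgroup (P2 F)) : Set (P2 F)).ncard = Nat.card ↥(T1 a b ⊓ W F) :=
      (Nat.card_coe_set_eq _).symm
    have t2 : ((T2 a b ⊓ W F : Subgroup (P2 F)) : Set (P2 F)).ncard = Nat.card ↥(T2 a b ⊓ W F) :=
      (Nat.card_coe_set_eq _).symm
    rw [t1] at e1 e2
    rw [t2] at e2
    have hA := hcardB a₀
    have hB := hcardB b₀
    rw [hT2W] at e2
    rw [show (((BW a₀ : Subgroup (P2 F)) : Set (P2 F)) ∪ (BW b₀ : Set (P2 F)) ∪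
        ((T2 a b ⊓ W F : Subgroup (P2 F)) : Set (P2 F))).ncard =
        ((BW a₀ : Subgroup (P2 F)) : Set (P2 F)).ncard +
          ((BW b₀ : Subgroup (P2 F)) : Set (P2 F)).ncard by omega, add_mul, hA, hB]
    ring
  · refine ⟨fun h => absurd (hboth (k := 1) h (heq ▸ hde)) one_ne_zero, fun _ => ?_⟩
    have hS : solSet x ∩ (W F : Set (P2 F)) = ((T2 a b ⊓ W F : Subgroup (P2 F)) : Set (P2 F)) := by
      ext y
      simp only [Set.mem_inter_iff, SetLike.mem_coe, Subgroup.mem_inf]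
      constructor
      · rintro ⟨hs, hy⟩
        rcases hsol y hy hs with ⟨z, hxz, -⟩ | h
        · exfalso
          have hz : ∀ c : KK F, (∀ w : F, algebraMap F (KK F) w ≠ c) → ex z ≠ (c : OnePoint (KK F)) := by
            intro c hc e
            cases z with
            | infty => rw [ex_infty] at e; exact infty_ne_coe _ e
            | coe w => rw [ex_coe, coe_eq_coe] at e; exact hc w e
          rcases hfix (ex z) (by rw [iota_smul_ex, hxz]) with h | h
          · exact hz θ hθ (h.trans ha)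
          · refine hz _ (fun w e => ?_) (h.trans hb)
            exact hθ (t - w) (by rw [map_sub, e]; ring)
        · exact ⟨h, hy⟩
      · rintro ⟨h, hy⟩
        exact ⟨mem_solSet_of_T2 D.ne (T1_le_T2 a b hxT) h, hy⟩
    rw [Nat.card_coe_set_eq, hS, ← Nat.card_coe_set_eq]
    show Nat.card ↥(T2 a b ⊓ W F) * _ = _
    rw [hT2W, mul_assoc, mul_comm _ (Nat.gcd _ _), hTW, heq]

end CfsgLib.H29.Solubilizer
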